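import Mathlib
import Groth.Prelude.Def_SheafNL

/-! helper7: base change of the naive cotangent complex along a cocartesian square: surjectivity on `H^{-1}` (S7221). General lemmas: kernel of the bottom arrow of a pushout square with surjective top arrow, independence of `NLCx.bcH1Map` of the chosen morphism of extensions, compatibility with composition. -/

set_option linter.style.haveILetI false
set_option linter.unusedVariables false
set_option linter.unusedSectionVars false

open CategoryTheory CategoryTheory.Limits TensorProduct

namespace Groth.Agent.Helper7.NLBC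

universe u

section Ker

variable (A B A' B' : Type*) [CommRing A] [CommRing B] [CommRing A'] [CommRing B']
  [Algebra A B] [Algebra A A'] [Algebra A' B'] [Algebra B B'] [Algebra A B']
  [IsScalarTower A B B'] [IsScalarTower A A' B'] [Algebra.IsPushout A B A' B']

/-- In a pushout square of rings whose top arrow `A → B` is surjective, the kernel of the bottom
arrow `A' → B'` is generated by the image of the kernel of the top arrow. -/
theorem ker_le_map_of_isPushout (hs : Function.Surjective (algebraMap A B)) :
    RingHom.ker (algebraMap A' B') ≤ (RingHom.ker (algebraMap A B)).map (algebraMap A A') := by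
  intro y hy
  have hbc : IsBaseChange B (IsScalarTower.toAlgHom A A' B').toLinearMap := Algebra.IsPushout.out
  have h0 : (1 : B) ⊗ₜ[A] y = 0 := by
    apply hbc.equiv.injective
    rw [IsBaseChange.equiv_tmul, map_zero, one_smul]
    exact hy
  have hex : Function.Exact (RingHom.ker (algebraMap A B)).subtype (Algebra.linearMap A B) := by
    intro a
    constructor
    · intro h
      exact ⟨⟨a, h⟩, rfl⟩
    · rintro ⟨x, rfl⟩
      exact x.2
  have hex2 := rTensor_exact A' hex hs
  obtain ⟨t, ht⟩ := (hex2 ((1 : A) ⊗ₜ[A] y)).mp (by
    rw [LinearMap.rTensor_tmul, Algebra.linearMap_apply, map_one]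
    exact h0)
  have key : ∀ t : (RingHom.ker (algebraMap A B)) ⊗[A] A',
      TensorProduct.lid A A' ((RingHom.ker (algebraMap A B)).subtype.rTensor A' t) ∈
        (RingHom.ker (algebraMap A B)).map (algebraMap A A') := by
    intro t
    induction t using TensorProduct.induction_on with
    | zero => simp
    | tmul x r =>
      rw [LinearMap.rTensor_tmul, TensorProduct.lid_tmul, Submodule.subtype_apply,
        Algebra.smul_def]
      exact Ideal.mul_mem_right _ _ (Ideal.mem_map_of_mem _ x.2)
    | add a b ha hb =>
      rw [map_add, map_add]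
      exact Ideal.add_mem _ ha hb
  have := key t
  rw [ht, TensorProduct.lid_tmul, one_smul] at this
  exact this

end Ker

section Surj

open Algebra.Extension

variable {R S R' S' : Type u} [CommRing R] [CommRing S] [Algebra R S] [CommRing R'] [CommRing S']
  [Algebra R' S'] [Algebra R R'] [Algebra S S'] [Algebra R S'] [IsScalarTower R R' S']
  [IsScalarTower R S S']
  {P : Algebra.Extension.{u} R S} {P' : Algebra.Extension.{u} R' S'} (f : P.Hom P')

theorem map_ker_le : P.ker.map f.toRingHom ≤ P'.ker := by
  rw [Ideal.map_le_iff_le_comap]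
  intro x hx
  have hx' : algebraMap P.Ring S x = 0 := hx
  change algebraMap P'.Ring S' (f.toRingHom x) = 0
  rw [f.algebraMap_toRingHom, hx', map_zero]

theorem liftBaseChange_cotangent_surjective (hk : P'.ker ≤ P.ker.map f.toRingHom) :
    Function.Surjective (LinearMap.liftBaseChange S' (Cotangent.map f)) := by
  intro c
  obtain ⟨⟨y, hy⟩, rfl⟩ := Cotangent.mk_surjective c
  have hle := map_ker_le f
  have key : ∀ y (hy' : y ∈ P.ker.map f.toRingHom) (hy : y ∈ P'.ker),
      (Cotangent.mk ⟨y, hy⟩ : P'.Cotangent) ∈
        LinearMap.range (LinearMap.liftBaseChange S' (Cotangent.map f)) := by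
    intro y hy'
    refine Submodule.span_induction (p := fun y _ => ∀ hy : y ∈ P'.ker,
      (Cotangent.mk ⟨y, hy⟩ : P'.Cotangent) ∈
        LinearMap.range (LinearMap.liftBaseChange S' (Cotangent.map f))) ?_ ?_ ?_ ?_ hy'
    · rintro _ ⟨x, hx, rfl⟩ hy
      refine ⟨1 ⊗ₜ Cotangent.mk ⟨x, hx⟩, ?_⟩
      rw [LinearMap.liftBaseChange_tmul, one_smul, Cotangent.map_mk]
      rfl
    · intro hy
      have : (Cotangent.mk ⟨0, hy⟩ : P'.Cotangent) = 0 := by
        rw [Cotangent.mk_eq_zero_iff]
        exact Ideal.zero_mem _
      rw [this]
      exact zero_mem _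
    · intro a b ha hb iha ihb hy
      have ha' := hle ha
      have hb' := hle hb
      have : (Cotangent.mk ⟨a + b, hy⟩ : P'.Cotangent) =
          Cotangent.mk ⟨a, ha'⟩ + Cotangent.mk ⟨b, hb'⟩ := by
        rw [← map_add]
        rfl
      rw [this]
      exact add_mem (iha ha') (ihb hb')
    · intro r a ha iha hy
      have ha' := hle ha
      have : (Cotangent.mk ⟨r • a, hy⟩ : P'.Cotangent) = r • Cotangent.mk ⟨a, ha'⟩ := by
        rw [← map_smul]
        rfl
      rw [this, ← algebraMap_smul S' r]
      exact Submodule.smul_mem _ _ (iha ha')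
  exact key y (hk hy) hy

theorem bcH1Map_surjective (hk : P'.ker ≤ P.ker.map f.toRingHom)
    (hinj : Function.Injective (LinearMap.liftBaseChange S' (CotangentSpace.map f))) :
    Function.Surjective (NLCx.bcH1Map f) := by
  intro z
  obtain ⟨w, hw⟩ := liftBaseChange_cotangent_surjective f hk z.1
  have key : P'.cotangentComplex ∘ₗ LinearMap.liftBaseChange S' (Cotangent.map f) =
      LinearMap.liftBaseChange S' (CotangentSpace.map f) ∘ₗ
        P.cotangentComplex.baseChange S' := by
    ext y
    simpa using (CotangentSpace.map_cotangentComplex f y).symm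
  have hwk : w ∈ NLCx.bcH1 P S' := by
    rw [NLCx.bcH1, LinearMap.mem_ker]
    apply hinj
    have := congr($key w)
    simp only [LinearMap.coe_comp, Function.comp_apply] at this
    rw [← this, hw, map_zero]
    exact z.2
  refine ⟨⟨w, hwk⟩, ?_⟩
  apply Subtype.ext
  exact hw

end Surj

section SameVars

open Algebra.Extension

variable (R S R' S' : Type u) [CommRing R] [CommRing S] [CommRing R'] [CommRing S']
  [Algebra R S] [Algebra R' S'] [Algebra R R'] [Algebra S S'] [Algebra R S']
  [IsScalarTower R R' S'] [IsScalarTower R S S']
  {ι : Type u} (G : Algebra.Generators R S ι) (G' : Algebra.Generators R' S' ι)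
  (h : ∀ i, G'.val i = algebraMap S S' (G.val i))

theorem toRingHom_eq_map (x : MvPolynomial ι R) :
    (NLCx.sameVarsHom G G' h).toExtensionHom.toRingHom x =
      MvPolynomial.map (algebraMap R R') x := by
  change MvPolynomial.aeval (fun i => (MvPolynomial.X i : MvPolynomial ι R')) x = _
  induction x using MvPolynomial.induction_on with
  | C a =>
    rw [MvPolynomial.aeval_C, MvPolynomial.map_C,
      IsScalarTower.algebraMap_apply R R' (MvPolynomial ι R'), MvPolynomial.algebraMap_eq]
  | add p q hp hq => rw [map_add, map_add, hp, hq]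
  | mul_X p i hp => rw [map_mul, map_mul, hp, MvPolynomial.aeval_X, MvPolynomial.map_X]

theorem liftBaseChange_cotangentSpace_bijective :
    Function.Bijective (LinearMap.liftBaseChange S'
      (CotangentSpace.map (NLCx.sameVarsHom G G' h).toExtensionHom)) := by
  have e : LinearMap.liftBaseChange S'
      (CotangentSpace.map (NLCx.sameVarsHom G G' h).toExtensionHom) =
      ((G.cotangentSpaceBasis.baseChange S').equiv G'.cotangentSpaceBasis
        (Equiv.refl ι)).toLinearMap := by
    refine (G.cotangentSpaceBasis.baseChange S').ext (fun i => ?_)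
    rw [LinearEquiv.coe_coe, Module.Basis.equiv_apply, Equiv.refl_apply,
      Module.Basis.baseChange_apply, LinearMap.liftBaseChange_tmul, one_smul,
      Algebra.Generators.cotangentSpaceBasis_apply, Algebra.Generators.cotangentSpaceBasis_apply]
    refine (CotangentSpace.map_tmul _ _ _).trans ?_
    rw [map_one]
    have e2 : (NLCx.sameVarsHom G G' h).toExtensionHom.toAlgHom
        (MvPolynomial.X i : MvPolynomial ι R) = (MvPolynomial.X i : MvPolynomial ι R') := by
      rw [Algebra.Extension.Hom.toAlgHom_apply]
      exact (toRingHom_eq_map R S R' S' G G' h _).trans (MvPolynomial.map_X _ _)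
    rw [e2]
    rfl
  rw [e]
  exact LinearEquiv.bijective _

attribute [local instance] MvPolynomial.algebraMvPolynomial in
theorem ker_le_map [Algebra.IsPushout R R' S S'] :
    G'.toExtension.ker ≤
      G.toExtension.ker.map (NLCx.sameVarsHom G G' h).toExtensionHom.toRingHom := by
  letI : Algebra G.Ring S' := ((algebraMap S S').comp (algebraMap G.Ring S)).toAlgebra
  haveI : IsScalarTower G.Ring S S' := IsScalarTower.of_algebraMap_eq' rfl
  haveI : IsScalarTower G.Ring G'.Ring S' := by
    refine IsScalarTower.of_algebraMap_eq (fun x => ?_)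
    have := (NLCx.sameVarsHom G G' h).toExtensionHom.algebraMap_toRingHom x
    rw [toRingHom_eq_map] at this
    exact this.symm
  haveI : Algebra.IsPushout R S R' S' := Algebra.IsPushout.symm inferInstance
  haveI : Algebra.IsPushout G.Ring S G'.Ring S' :=
    (Algebra.IsPushout.comp_iff R G.Ring R' G'.Ring (T := S) (T' := S')).mp inferInstance
  have key := ker_le_map_of_isPushout G.Ring S G'.Ring S' G.algebraMap_surjective
  have e : (NLCx.sameVarsHom G G' h).toExtensionHom.toRingHom = algebraMap G.Ring G'.Ring :=
    RingHom.ext (fun x => toRingHom_eq_map R S R' S' G G' h x)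
  rw [e]
  exact key

theorem part1 [Algebra.IsPushout R R' S S'] :
    Function.Surjective (NLCx.bcH1Map (NLCx.sameVarsHom G G' h).toExtensionHom) :=
  bcH1Map_surjective _ (ker_le_map R S R' S' G G' h)
    (liftBaseChange_cotangentSpace_bijective R S R' S' G G' h).1

end SameVars

section Indep

open Algebra.Extension

variable {R S R' S' : Type u} [CommRing R] [CommRing S] [Algebra R S] [CommRing R'] [CommRing S']
  [Algebra R' S'] [Algebra R R'] [Algebra S S'] [Algebra R S'] [IsScalarTower R R' S']
  [IsScalarTower R S S']
  {P : Algebra.Extension.{u} R S} {P' : Algebra.Extension.{u} R' S'}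

/-- The map on `H^{-1}` of the base-changed complex does not depend on the morphism of
extensions. -/
theorem bcH1Map_eq (f g : P.Hom P') : NLCx.bcH1Map f = NLCx.bcH1Map g := by
  have key : LinearMap.liftBaseChange S' (Cotangent.map f) -
      LinearMap.liftBaseChange S' (Cotangent.map g) =
      LinearMap.liftBaseChange S' (f.sub g) ∘ₗ P.cotangentComplex.baseChange S' := by
    refine TensorProduct.AlgebraTensorModule.ext (fun s c => ?_)
    rw [LinearMap.sub_apply, LinearMap.liftBaseChange_tmul, LinearMap.liftBaseChange_tmul,
      LinearMap.comp_apply, LinearMap.baseChange_tmul, LinearMap.liftBaseChange_tmul,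
      ← smul_sub, ← LinearMap.sub_apply, Cotangent.map_sub_map]
    rfl
  refine LinearMap.ext (fun x => ?_)
  apply Subtype.ext
  change LinearMap.liftBaseChange S' (Cotangent.map f) x.1 =
    LinearMap.liftBaseChange S' (Cotangent.map g) x.1
  rw [← sub_eq_zero, ← LinearMap.sub_apply, key, LinearMap.comp_apply]
  have hx : P.cotangentComplex.baseChange S' x.1 = 0 := x.2
  rw [hx, map_zero]

variable {P'' : Algebra.Extension.{u} R' S'}

theorem bcH1Map_comp (f : P.Hom P') (g : P'.Hom P'') (x : NLCx.bcH1 P S') :
    NLCx.bcH1Map (g.comp f) x = H1Cotangent.map g (NLCx.bcH1Map f x) := by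
  apply Subtype.ext
  change LinearMap.liftBaseChange S' (Cotangent.map (g.comp f)) x.1 =
    Cotangent.map g (LinearMap.liftBaseChange S' (Cotangent.map f) x.1)
  have key : LinearMap.liftBaseChange S' (Cotangent.map (g.comp f)) =
      Cotangent.map g ∘ₗ LinearMap.liftBaseChange S' (Cotangent.map f) := by
    refine TensorProduct.AlgebraTensorModule.ext (fun s c => ?_)
    rw [LinearMap.liftBaseChange_tmul, LinearMap.comp_apply, LinearMap.liftBaseChange_tmul,
      map_smul, Cotangent.map_comp]
    rfl
  rw [key]
  rfl

end Indep

section Part2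

open Algebra.Extension

variable (R S R' S' : Type u) [CommRing R] [CommRing S] [CommRing R'] [CommRing S']
  [Algebra R S] [Algebra R' S'] [Algebra R R'] [Algebra S S'] [Algebra R S']
  [IsScalarTower R R' S'] [IsScalarTower R S S'] [Algebra.IsPushout R R' S S']

include R in
theorem aeval_algebraMap_surjective :
    Function.Surjective (MvPolynomial.aeval (R := R') (fun s : S => algebraMap S S' s)) := by
  have hbc : IsBaseChange R' (IsScalarTower.toAlgHom R S S').toLinearMap :=
    Algebra.IsPushout.out
  intro x
  refine hbc.inductionOn x _ ⟨0, map_zero _⟩ ?_ ?_ ?_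
  · intro s
    exact ⟨MvPolynomial.X s, by simp⟩
  · rintro r _ ⟨p, rfl⟩
    exact ⟨r • p, by rw [map_smul]⟩
  · rintro _ _ ⟨p, rfl⟩ ⟨q, rfl⟩
    exact ⟨p + q, map_add _ _ _⟩

/-- The base-changed presentation of `S'` over `R'` on the variables indexed by `S`. -/
noncomputable def genBC : Algebra.Generators R' S' S :=
  Algebra.Generators.ofSurjective (fun s : S => algebraMap S S' s)
    (aeval_algebraMap_surjective R S R' S')

theorem genBC_val (s : S) :
    (genBC R S R' S').val s = algebraMap S S' ((Algebra.Generators.self R S).val s) := rfl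

theorem part2 :
    Function.Surjective (NLCx.bcH1Map
      ((Algebra.Generators.self R S).defaultHom
        (Algebra.Generators.self R' S')).toExtensionHom) := by
  have h1 := part1 R S R' S' (Algebra.Generators.self R S) (genBC R S R' S')
    (genBC_val R S R' S')
  have e := bcH1Map_eq
    ((Algebra.Generators.self R S).defaultHom (Algebra.Generators.self R' S')).toExtensionHom
    ((((genBC R S R' S').defaultHom (Algebra.Generators.self R' S')).toExtensionHom).comp
      (NLCx.sameVarsHom (Algebra.Generators.self R S) (genBC R S R' S')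
        (genBC_val R S R' S')).toExtensionHom)
  rw [e]
  intro z
  obtain ⟨y, hy⟩ := (Algebra.Generators.H1Cotangent.equiv (genBC R S R' S')
    (Algebra.Generators.self R' S')).surjective z
  obtain ⟨x, hx⟩ := h1 y
  refine ⟨x, ?_⟩
  rw [bcH1Map_comp, hx]
  exact hy

end Part2

end Groth.Agent.Helper7.NLBC
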